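import Cfsg.Agent.Blk.PrinSec
import Cfsg.Agent.Blk.PrinDih
import Cfsg.Agent.Char.Ker
import Cfsg.Agent.Char.Det
import Cfsg.Agent.Char.Mackey
import Cfsg.Agent.Char.Abelian
import Cfsg.Agent.Grp.Misc

/-!
# Brauer-Suzuki when the centralizer of the involution is `SL₂(3)` modulo an odd normal subgroup

Ordinary characters only. In `H` let `ω` be a linear character with kernel `Q` and `ψ` the
irreducible character of degree two and determinant one. Put `β = 1 + ω - ω̄ ψ` and
`γ = ω + ω̄ - ψ`. Both vanish on elements of odd order; the elements of even order of `C(z)` form a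
TI set, so induction to `G` keeps inner products. Hence `β^G = 1 + A + B` and `γ^G = A + Ā + D` with
signed irreducible characters. The values at `1`, at `z` and on products of two involutions (these
have odd order) force `A 1 = 1`.
-/

set_option autoImplicit false
set_option linter.unusedSectionVars false

namespace Cfsg.Acd

open Subgroup
open scoped ComplexConjugate commutatorElement

universe u v

section SI

variable {G : Type u} [Group G] [Finite G] {A B D θ : G → ℂ} {z : G}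

/-- `A` is an irreducible character up to sign. -/
def SI (A : G → ℂ) : Prop := ∃ χ : IrrCharacter G, A = χ.1 ∨ A = -χ.1

theorem SI.gen (h : SI A) : IsGeneralizedCharacter G A := by
  obtain ⟨χ, rfl | rfl⟩ := h
  exacts [χ.isCharacter.isGen, χ.isCharacter.isGen.neg]

theorem SI.ip_self (h : SI A) : ip A A = 1 := by
  obtain ⟨χ, rfl | rfl⟩ := h <;> simp [ip_neg_left, ip_neg_right, IrrCharacter.ip_self]

theorem SI.one_ne (h : SI A) : A 1 ≠ 0 := by
  obtain ⟨χ, rfl | rfl⟩ := h <;> simp [χ.apply_one_ne_zero]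

theorem SI.star (h : SI A) : SI (star A) := by
  obtain ⟨χ, rfl | rfl⟩ := h
  exacts [⟨χ.bar, .inl rfl⟩, ⟨χ.bar, .inr (star_neg _)⟩]

theorem si_one : SI (fun _ : G => (1 : ℂ)) := ⟨IrrCharacter.one G, .inl rfl⟩

theorem SI.trich (h : SI A) (h' : SI B) : A = B ∨ A = -B ∨ ip A B = 0 := by
  obtain ⟨χ, hχ⟩ := h
  obtain ⟨ψ, hψ⟩ := h'
  by_cases e : χ = ψ
  · subst e
    rcases hχ with rfl | rfl <;> rcases hψ with rfl | rfl <;> simp
  · rcases hχ with rfl | rfl <;> rcases hψ with rfl | rfl <;>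
      simp [ip_neg_left, ip_neg_right, IrrCharacter.ip_of_ne e]

theorem SI.ip_symm (h : IsGeneralizedCharacter G A) (h' : IsGeneralizedCharacter G B) :
    ip A B = ip B A := by
  obtain ⟨n, e⟩ := h.exists_ip_eq_int h'
  rw [← conj_ip A B, e, map_intCast]

theorem SI.star_apply (h : IsGeneralizedCharacter G A) (hz : z * z = 1) : Star.star A z = A z := by
  rw [Pi.star_apply, ← starRingEnd_apply, ← h.apply_inv, inv_eq_of_mul_eq_one_right hz]

theorem exists_si_add (h : IsGeneralizedCharacter G θ) (h2 : ip θ θ = 2) :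
    ∃ A B : G → ℂ, SI A ∧ SI B ∧ ip A B = 0 ∧ θ = A + B := by
  obtain ⟨a, ha, -⟩ := h.exists_eq_sum
  rw [ip_self_eq_sum_sq h.isClassFunction a ha] at h2
  replace h2 : ∑ χ, a χ ^ 2 = 2 := by exact_mod_cast h2
  obtain ⟨χ, hχ⟩ : ∃ χ, a χ ≠ 0 := by
    by_contra! hn; simp [hn] at h2
  have h3 : a χ ^ 2 ≤ 2 := h2 ▸ Finset.single_le_sum (f := fun χ => a χ ^ 2)
    (fun _ _ => sq_nonneg _) (Finset.mem_univ χ)
  obtain ⟨A, hA, h1⟩ : ∃ A, SI A ∧ ip θ A = 1 := by
    have : a χ = 1 ∨ a χ = -1 := by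
      have : -2 < a χ := by nlinarith
      have : a χ < 2 := by nlinarith
      omega
    rcases this with e | e
    · exact ⟨χ.1, ⟨χ, .inl rfl⟩, by rw [ha, e]; simp⟩
    · exact ⟨-χ.1, ⟨χ, .inr rfl⟩, by rw [ip_neg_right, ha, e]; simp⟩
  have h1' := SI.ip_symm hA.gen h ▸ h1
  have h4 : ip θ θ = 2 := by
    rw [ip_self_eq_sum_sq h.isClassFunction a ha, h2]; simp
  refine ⟨A, θ - A, hA, (h.sub hA.gen).exists_eq_of_ip_self_eq_one ?_, ?_, by simp⟩
  · simp only [ip_sub_left, ip_sub_right, h4, h1, h1', hA.ip_self]; norm_num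
  · simp only [ip_sub_right, h1', hA.ip_self]; norm_num

open Classical in
theorem SI.three (hA : SI A) (hB : SI B) (hD : SI D)
    (hv : ∀ x y, IsConj z x → IsConj z y → (A + B + D) (x * y) = 0) :
    A z * A z / A 1 + B z * B z / B 1 + D z * D z / D 1 = 0 := by
  have := Fintype.ofFinite G
  have key : ∀ {A : G → ℂ}, SI A → ∑ x ∈ Finset.univ.filter (IsConj z),
      ∑ y ∈ Finset.univ.filter (IsConj z), A (x * y) = ((centralizer ({z} : Set G)).index : ℂ) *
        ((centralizer ({z} : Set G)).index : ℂ) * (A z * A z / A 1) := by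
    intro A h
    rw [h.gen.isClassFunction.sum_class_mul_class]
    obtain ⟨χ, rfl | rfl⟩ := h <;> simp [ip_neg_left, IrrCharacter.ip_eq, div_neg]
  have h0 : ∑ x ∈ Finset.univ.filter (IsConj z), ∑ y ∈ Finset.univ.filter (IsConj z),
      (A + B + D) (x * y) = 0 := Finset.sum_eq_zero fun x hx => Finset.sum_eq_zero fun y hy =>
    hv x y (Finset.mem_filter.1 hx).2 (Finset.mem_filter.1 hy).2
  simp only [Pi.add_apply, Finset.sum_add_distrib, key hA, key hB, key hD, ← mul_add] at h0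
  have : ((centralizer ({z} : Set G)).index : ℂ) ≠ 0 := by exact_mod_cast (index_pos _).ne'
  simpa [this] using h0

theorem core_aux (hp : ∀ χ : IrrCharacter G, χ 1 = 1 → χ = IrrCharacter.one G) (hz : z * z = 1) {Γ : G → ℂ}
    (hA : SI A) (hB : SI B) (hΓ : IsGeneralizedCharacter G Γ) (oAB : ip A B = 0)
    (oA : ip A (fun _ => 1) = 0) (oB : ip B (fun _ => 1) = 0)
    (h1 : ip (A + B) (star (A + B)) = 0) (h2 : ip Γ Γ = 3) (h3 : ip Γ (fun _ => 1) = 0)
    (h4 : ip Γ A = 1) (h5 : ip Γ (star A) = 1 ∨ ip Γ (star B) = 1)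
    (e1 : 1 + A 1 + B 1 = 0) (ez : 1 + A z + B z = 4) (f1 : Γ 1 = 0) (fz : Γ z = 4)
    (v1 : ∀ x y, IsConj z x → IsConj z y → ((fun _ => 1) + A + B : G → ℂ) (x * y) = 0)
    (v2 : ∀ x y, IsConj z x → IsConj z y → Γ (x * y) = 0) : False := by
  have hone : ∀ {D : G → ℂ}, SI D → D 1 = 1 → ip D (fun _ => 1) = 1 := by
    rintro D ⟨χ, rfl | rfl⟩ h
    · rw [hp χ h]; exact ip_one_one
    · have := χ.charDegree_pos
      rw [Pi.neg_apply, χ.apply_one, neg_eq_iff_add_eq_zero] at h
      norm_cast at h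
  have hst : ∀ {D : G → ℂ}, SI D → ip D (star D) = 0 ∨ D = star D ∧ ip D (star D) = 1 := by
    intro D h
    rcases h.trich h.star with e | e | e
    · exact .inr ⟨e, e ▸ h.ip_self⟩
    · have := congrFun e 1
      rw [Pi.neg_apply, SI.star_apply h.gen (one_mul 1), eq_neg_iff_add_eq_zero, ← two_mul] at this
      exact absurd this (mul_ne_zero two_ne_zero h.one_ne)
    · exact .inl e
  have hthird : ∀ {E : G → ℂ}, SI E → ip Γ E = 1 → ip A E = 0 → SI (Γ - A - E) := fun {E} hE a b =>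
    ((hΓ.sub hA.gen).sub hE.gen).exists_eq_of_ip_self_eq_one (by
      simp only [ip_sub_left, ip_sub_right, h2, h4, a, b, SI.ip_symm hA.gen hΓ,
        SI.ip_symm hE.gen hΓ, SI.ip_symm hE.gen hA.gen, hA.ip_self, hE.ip_self]
      norm_num)
  have s1 : ip (star A) B = ip A (star B) := by
    rw [← ip_star_star (star B) A, star_star, SI.ip_symm hA.star.gen hB.gen]
  rw [star_add, ip_add_left, ip_add_right, ip_add_right, SI.ip_symm hB.gen hA.star.gen, s1] at h1
  have sA := SI.star_apply hA.gen hz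
  have sA1 := SI.star_apply hA.gen (one_mul 1)
  have sB1 := SI.star_apply hB.gen (one_mul 1)
  have st1 : ∀ {D : G → ℂ}, SI D → ip D (fun _ => 1) = 0 → ip (star D) (fun _ => 1) = 0 :=
    fun {D} h e => by
      have : (fun _ => 1 : G → ℂ) = star (fun _ => 1) := by ext; simp
      rw [this, ip_star_star, SI.ip_symm si_one.gen h.gen, e]
  rcases h5 with h5 | h5
  · have oA' : ip A (star A) = 0 := by
      refine (hst hA).resolve_right fun ⟨e, _⟩ => ?_
      rw [← s1, ← e, oAB, hA.ip_self] at h1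
      rcases hst hB with e' | ⟨-, e'⟩ <;> rw [e'] at h1 <;> norm_num at h1
    have hD := hthird hA.star h5 oA'
    have t1 := si_one.three hA hB v1
    have t2 := hA.three hA.star hD (fun x y hx hy => by simpa using v2 x y hx hy)
    simp only [Pi.sub_apply, sA, sA1, f1, fz] at t1 t2
    have a0 := hA.one_ne
    have b0 := hB.one_ne
    have hz1 : A z = 1 := by
      have : (0 : ℂ) - A 1 - A 1 = -2 * A 1 := by ring
      rw [this] at t2
      field_simp at t2
      linear_combination (1 / 16 : ℂ) * t2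
    have hb1 : B 1 = -1 - A 1 := by linear_combination e1
    have hbz : B z = 2 := by linear_combination ez - hz1
    rw [hz1, hbz] at t1
    field_simp at t1
    rw [hb1] at t1
    have : (A 1 - 1) ^ 2 = 0 := by linear_combination -t1
    rw [hone hA (by simpa [sub_eq_zero] using this)] at oA
    exact one_ne_zero oA
  · have oA' : ip A (star B) = 0 := by
      rcases hA.trich hB.star with e | e | e
      · have e' : ip A (star B) = 1 := e ▸ hA.ip_self
        rcases hst hA with a | ⟨-, a⟩ <;> rcases hst hB with b | ⟨-, b⟩ <;>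
          rw [e', a, b] at h1 <;> norm_num at h1
      · rw [e, ip_neg_right, h5] at h4; norm_num at h4
      · exact e
    have hD := hthird hB.star h5 oA'
    have := hone hD (by simp only [Pi.sub_apply, sB1, f1]; linear_combination -e1)
    rw [ip_sub_left, ip_sub_left, h3, oA, st1 hB oB] at this
    norm_num at this

theorem core (hp : ∀ χ : IrrCharacter G, χ 1 = 1 → χ = IrrCharacter.one G) (hz : z * z = 1)
    {Γ : G → ℂ} (hθ : IsGeneralizedCharacter G θ) (hΓ : IsGeneralizedCharacter G Γ)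
    (g1 : ip θ θ = 3) (g2 : ip θ (fun _ => 1) = 1) (g3 : ip θ (star θ) = 1)
    (h2 : ip Γ Γ = 3) (h3 : ip Γ (fun _ => 1) = 0) (h4 : ip Γ θ = 1) (h5 : ip Γ (star θ) = 1)
    (e1 : θ 1 = 0) (ez : θ z = 4) (f1 : Γ 1 = 0) (fz : Γ z = 4)
    (v1 : ∀ x y, IsConj z x → IsConj z y → θ (x * y) = 0)
    (v2 : ∀ x y, IsConj z x → IsConj z y → Γ (x * y) = 0) : False := by
  have g2' := SI.ip_symm si_one.gen hθ ▸ g2
  have st : star (fun _ => 1 : G → ℂ) = fun _ => 1 := by ext; simp
  obtain ⟨A, B, hA, hB, oAB, e⟩ := exists_si_add (hθ.sub si_one.gen) (by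
    simp only [ip_sub_left, ip_sub_right, g1, g2, g2', ip_one_one]; norm_num)
  have oBA := SI.ip_symm hB.gen hA.gen ▸ oAB
  have o : ip A (fun _ => 1) + ip B (fun _ => 1) = 0 := by
    rw [← ip_add_left, ← e, ip_sub_left, g2, ip_one_one, sub_self]
  have oA : ip A (fun _ => 1) = 0 := by
    have o' : ip B (fun _ => 1) = -ip A (fun _ => 1) := by linear_combination o
    rcases hA.trich si_one with a | a | a
    · rw [a] at o' oBA; rw [oBA, ip_one_one] at o'; norm_num at o'
    · rw [a, ip_neg_right, o', a, ip_neg_left, ip_one_one] at oBA; norm_num at oBA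
    · exact a
  have oB : ip B (fun _ => 1) = 0 := by linear_combination o - oA
  have h1 : ip (A + B) (star (A + B)) = 0 := by
    have : ip (fun _ => 1) (star θ) = 1 := by rw [← st, ip_star_star, g2]
    rw [← e, star_sub, st]
    simp only [ip_sub_left, ip_sub_right, g3, g2, this, ip_one_one]; norm_num
  obtain rfl : θ = (fun _ => 1) + A + B := by rw [add_assoc, ← e, add_sub_cancel]
  have two : ∀ {A B : G → ℂ}, SI A → SI B → ip A B = 0 → ip Γ A + ip Γ B = 1 →
      ip Γ A = 1 ∨ ip Γ B = 1 := fun {A B} hA hB o h => by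
    obtain ⟨m, hm⟩ := hΓ.exists_ip_eq_int hA.gen
    obtain ⟨n, hn⟩ := hΓ.exists_ip_eq_int hB.gen
    have h6 := ip_self_re_nonneg (Γ - (m : ℂ) • A - (n : ℂ) • B)
    simp only [ip_sub_left, ip_sub_right, ip_smul_left, ip_smul_right, h2, hm, hn, o, map_intCast,
      SI.ip_symm hA.gen hΓ, SI.ip_symm hB.gen hΓ, SI.ip_symm hB.gen hA.gen, hA.ip_self,
      hB.ip_self] at h6
    rw [hm, hn] at h ⊢
    norm_cast at h h6 ⊢
    have : -2 < m := by nlinarith
    have : m < 2 := by nlinarith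
    have : -2 < n := by nlinarith
    have : n < 2 := by nlinarith
    omega
  have h5' := two hA.star hB.star (by rw [ip_star_star, oBA]) (by
    rwa [star_add, star_add, st, ip_add_right, ip_add_right, h3, zero_add] at h5)
  rcases two hA hB oAB (by rwa [ip_add_right, ip_add_right, h3, zero_add] at h4) with h4 | h4
  · exact core_aux hp hz hA hB hΓ oAB oA oB h1 h2 h3 h4 h5' e1 ez f1 fz v1 v2
  · refine core_aux hp hz hB hA hΓ oBA oB oA (add_comm A B ▸ h1) h2 h3 h4 h5'.symm ?_ ?_ f1 fz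
      (add_right_comm _ A B ▸ v1) v2
    · rw [add_right_comm]; exact e1
    · rw [add_right_comm]; exact ez

end SI

theorem exists_chars {H : Type v} [Group H] [Finite H] (hH : Nat.card H = 24)
    (Q : Subgroup H) [Q.Normal] (hQ : Nat.card Q = 8) (hQc : ¬ IsMulCommutative Q)
    {y : H} (hy : orderOf y = 3) (hyQ : y ∉ centralizer (Q : Set H)) {w : H} (hw : orderOf w = 2)
    (hwc : w ∈ center H) (hu : ∀ v : H, orderOf v = 2 → v = w) :
    ∃ (lam : H →* ℂˣ) (ψ : IrrCharacter H), lam w = 1 ∧ (lam y : ℂ) ^ 2 + lam y + 1 = 0 ∧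
      (∀ h, (lam h : ℂ) ^ 3 = 1) ∧ ψ 1 = 2 ∧ ψ w = -2 ∧ ψ y = -1 ∧
      ∀ h, ¬ 2 ∣ orderOf h → ψ h = lam h + (lam h : ℂ) ^ 2 := by
  have hi : Q.index = 3 := by have := Q.card_mul_index; rw [hQ, hH] at this; omega
  have : IsCyclic (H ⧸ Q) := isCyclic_of_prime_card (p := 3) (by rw [← index_eq_card, hi])
  obtain ⟨lam, hl⟩ := exists_linear_ker_eq Q
  have hwQ : w ∈ Q := mem_of_coprime_orderOf_index (by rw [hw, hi]; decide)
  have h2 : ∀ q ∈ Q, q ≠ 1 → w ∈ zpowers q := fun q hq h1 => by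
    have h8 : orderOf q ∣ 2 ^ 3 := (Q.orderOf_dvd_natCard hq).trans hQ.dvd
    obtain ⟨j, hj, e⟩ := exists_mem_zpowers_orderOf_two (g := q) (by
      obtain ⟨k, -, e⟩ := (Nat.dvd_prime_pow Nat.prime_two).1 h8
      exact e ▸ dvd_pow_self 2 fun h0 => h1 (by rwa [h0, pow_zero, orderOf_eq_one_iff] at e))
    exact hu j e ▸ hj
  have hw' : w ∈ commutator H := by
    obtain ⟨a, ha, b, hb, hab⟩ : ∃ a ∈ Q, ∃ b ∈ Q, a * b ≠ b * a := by
      simpa [isMulCommutative_iff_forall] using hQc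
    exact zpowers_le.2 (commutator_mem_commutator (mem_top a) (mem_top b)) (h2 _
      (commutator_le_left Q ⊤ (commutator_mem_commutator ha (mem_top b)))
      fun e => hab (commutatorElement_eq_one_iff_mul_comm.1 e))
  have hl3 : ∀ h, (lam h : ℂ) ^ 3 = 1 := fun h => by
    rw [← Units.val_pow_eq_pow_val, ← map_pow, Units.val_eq_one, ← MonoidHom.mem_ker, hl, ← hi]
    exact Q.pow_index_mem h
  have hroot : ∀ c : ℂ, c ^ 3 = 1 → c ≠ 1 → c ^ 2 + c + 1 = 0 := fun c h1 h2 =>
    mul_left_cancel₀ (sub_ne_zero.2 h2) (by linear_combination h1)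
  have hl1 : ∀ h, orderOf h = 3 → (lam h : ℂ) ^ 2 + lam h + 1 = 0 := fun h hh =>
    hroot _ (hl3 h) fun e => by
      have := Q.orderOf_dvd_natCard (hl ▸ MonoidHom.mem_ker.2 (Units.val_eq_one.1 e))
      rw [hh, hQ] at this; omega
  obtain ⟨χ, hχ⟩ := exists_irr_apply_eq_mul_of_mem_center hwc (ζ := -1) (by rw [hw]; norm_num)
  have hdet : detChar χ.1 w = 1 := by
    rw [← coe_detHom, linear_apply_of_mem_commutator _ hw', Units.val_one]
  have hd : charDegree χ.1 = 2 := by
    have h1 := χ.isCharacter.detChar_of_mem_charCenter (χ.center_le_charCenter hwc)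
    rw [hdet, hχ, mul_div_cancel_right₀ _ χ.apply_one_ne_zero] at h1
    have h3 := χ.sq_charDegree_le_index_of_le ((zpowers_le.2 hwc).trans χ.center_le_charCenter)
    have h4 := (zpowers w).card_mul_index
    rw [Nat.card_zpowers, hw, hH] at h4
    have h5 := χ.charDegree_pos
    have h6 : charDegree χ.1 < 4 := by nlinarith
    interval_cases charDegree χ.1 <;> first | rfl | norm_num at h1
  have hψ1 : (detHom χ.1 • χ) 1 = 2 := by simp [χ.apply_one, hd]
  have hψw : (detHom χ.1 • χ) w = -2 := by simp [hdet, hχ, χ.apply_one, hd]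
  have hψd : ∀ h, orderOf h = 3 → detChar (detHom χ.1 • χ).1 h = 1 := fun h hh => by
    rw [IrrCharacter.linear_smul_val, χ.isCharacter.detChar_linear_mul (isCharacter_linear _)
      (by simp), hd]
    simp only [Pi.mul_apply, Pi.pow_apply, coe_detHom]
    rw [← pow_succ, ← detChar_map_pow, show 2 + 1 = orderOf h from hh.symm, pow_orderOf_eq_one,
      detChar_apply_one]
  have hψd' : charDegree (detHom χ.1 • χ).1 = 2 := by simp [hd]
  generalize detHom χ.1 • χ = ψ at hψ1 hψw hψd hψd'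
  have hψ3 : ∀ h, orderOf h = 3 → ψ h = -1 := fun h hh => by
    obtain ⟨ε, e1, e2, e3⟩ := ψ.isCharacter.exists_roots h
    have hc : h ∉ charCenter ψ.1 := fun hc => hyQ <| by
      have hhQ : h ∈ centralizer (Q : Set H) := fun q hq => by
        refine (commutatorElement_eq_one_iff_mul_comm.1 (by_contra fun h1 => ?_)).symm
        have := zpowers_le.2 (ψ.mem_charCenter_iff.1 hc q) (h2 _
          (commutator_le_right ⊤ Q (commutator_mem_commutator (mem_top h) hq)) h1)
        rw [ψ.mem_charKer, hψ1, hψw] at this; norm_num at this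
      refine mem_of_coprime_orderOf_index ?_
      obtain ⟨k, hk⟩ := hh ▸ orderOf_dvd_natCard _ hhQ
      have := (centralizer (Q : Set H)).card_mul_index
      rw [hk, hH] at this
      rw [hy]
      exact Nat.Coprime.coprime_dvd_right ⟨k, by linarith⟩ (by decide : Nat.Coprime 3 8)
    rw [ψ.mem_charCenter] at hc
    replace e2 := e2 1
    replace e3 := e3 1
    rw [pow_one] at e2 e3
    rw [hψd h hh] at e3
    rw [hh] at e1
    revert ε hc
    rw [hψd']
    intro ε e1 hc e2 e3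
    simp only [Fin.sum_univ_two, Fin.prod_univ_two, pow_one] at e2 e3
    have h0 : ε 0 ≠ 1 := fun e => hc <| by
      rw [e, one_mul] at e3; rw [e2, e, ← e3]; norm_num
    have h1 := hroot _ (e1 0) h0
    have h3 : ε 1 = ε 0 ^ 2 := by linear_combination (ε 0 ^ 2) * -e3 - ε 1 * e1 0
    rw [e2, h3]; linear_combination h1
  refine ⟨lam, ψ, MonoidHom.mem_ker.1 (hl ▸ hwQ), hl1 y hy, hl3, hψ1, hψw, hψ3 y hy,
    fun h hh => ?_⟩
  have h3 : orderOf h ∣ 3 := (Nat.Coprime.dvd_of_dvd_mul_right (Nat.Coprime.pow_right 3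
    ((Nat.prime_two.coprime_iff_not_dvd.2 hh).symm)) ((orderOf_dvd_natCard h).trans hH.dvd))
  rcases (Nat.dvd_prime Nat.prime_three).1 h3 with e | e
  · rw [orderOf_eq_one_iff.1 e, hψ1]; norm_num
  · rw [hψ3 h e]; linear_combination -hl1 h e

theorem not_quat {G : Type u} [Group G] [Finite G] [IsSimpleGroup G] {z : G}
    (hz : orderOf z = 2) (hu : ∀ v : G, orderOf v = 2 → Commute z v → v = z)
    {H : Type v} [Group H] [Finite H] (π : centralizer ({z} : Set G) →* H)
    (hπ : Function.Surjective π) (hker : ¬ 2 ∣ Nat.card π.ker) (hH : Nat.card H = 24)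
    (Q : Subgroup H) [Q.Normal] (hQ : Nat.card Q = 8) (hQc : ¬ IsMulCommutative Q)
    {y : H} (hy : orderOf y = 3) (hyQ : y ∉ centralizer (Q : Set H)) : False := by
  have hz2 : z * z = 1 := by rw [← pow_two, ← hz, pow_orderOf_eq_one]
  let z' : centralizer ({z} : Set G) := ⟨z, mem_centralizer_singleton_iff.2 rfl⟩
  have hu' : ∀ c : centralizer ({z} : Set G), orderOf c = 2 → c = z' := fun c hc =>
    Subtype.ext (hu c ((orderOf_coe c).trans hc) (mem_centralizer_singleton_iff.1 c.2).symm)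
  have hz' : orderOf z' = 2 := (orderOf_coe z').symm.trans hz
  have hw : orderOf (π z') = 2 :=
    ((Nat.dvd_prime Nat.prime_two).1 (hz' ▸ orderOf_map_dvd π z')).resolve_left fun e =>
      hker (hz' ▸ π.ker.orderOf_dvd_natCard (orderOf_eq_one_iff.1 e))
  have hwc : π z' ∈ center H := mem_center_iff.2 fun h => by
    obtain ⟨c, rfl⟩ := hπ h
    rw [← map_mul, ← map_mul]
    exact congrArg π (Subtype.ext (mem_centralizer_singleton_iff.1 c.2))
  have hwu : ∀ v : H, orderOf v = 2 → v = π z' := fun v hv => by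
    obtain ⟨c, rfl⟩ := hπ v
    have h1 : ¬ 2 ∣ orderOf (c ^ 2) := fun h => hker (h.trans (π.ker.orderOf_dvd_natCard (by
      rw [MonoidHom.mem_ker, map_pow, ← hv, pow_orderOf_eq_one])))
    have h2 : π (c ^ orderOf (c ^ 2)) = π c := by
      rw [map_pow, ← pow_mod_orderOf, hv, Nat.two_dvd_ne_zero.1 h1, pow_one]
    rw [← h2, hu' (c ^ orderOf (c ^ 2)) (orderOf_eq_prime
      (by rw [← pow_mul, mul_comm, pow_mul, pow_orderOf_eq_one])
      fun e => by rw [← h2, e, map_one, orderOf_one] at hv; omega)]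
  obtain ⟨lam, ψ, l1, l2, l3, p1, p2, p3, p4⟩ := exists_chars hH Q hQ hQc hy hyQ hw hwc hwu
  have li : ∀ h, ((lam h : ℂ))⁻¹ = (lam h : ℂ) ^ 2 := fun h =>
    inv_eq_of_mul_eq_one_right (by linear_combination l3 h)
  obtain ⟨f, f0, f1, f2, f3, f4, f5⟩ : ∃ f : Fin 6 → IrrCharacter H, f 0 = .one H ∧
      f 1 = .ofLinear lam ∧ f 2 = .ofLinear lam⁻¹ ∧ f 3 = ψ ∧ f 4 = lam⁻¹ • ψ ∧
      f 5 = (lam⁻¹ • ψ).bar := ⟨![_, _, _, _, _, _], rfl, rfl, rfl, rfl, rfl, rfl⟩
  have o : ∀ i j, ip (f i).1 (f j).1 = if i = j then 1 else 0 := fun i j => by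
    split_ifs with e
    · rw [e, (f j).ip_self]
    refine IrrCharacter.ip_of_ne fun e' => e ?_
    have v : ∀ i, f i y = ![1, (lam y : ℂ), lam y ^ 2, -1, -lam y ^ 2, -lam y] i := fun i => by
      fin_cases i <;> simp [f0, f1, f2, f3, f4, f5, p3, linear_conj_apply, li]
      linear_combination (lam y : ℂ) * l3 y
    have := (v i).symm.trans ((congrArg (fun χ : IrrCharacter H => χ y) e').trans (v j))
    clear * - this l2
    fin_cases i <;> fin_cases j <;>
      first | rfl | (simp only [Fin.reduceFinMk, Matrix.cons_val] at this; grind)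
  have hTI : ∀ x ∈ {c : centralizer ({z} : Set G) | 2 ∣ orderOf c},
      ∀ y ∈ {c : centralizer ({z} : Set G) | 2 ∣ orderOf c}, ∀ g : G,
      g⁻¹ * (centralizer ({z} : Set G)).subtype x * g = (centralizer ({z} : Set G)).subtype y →
        g ∈ (centralizer ({z} : Set G)).subtype.range := fun a ha b _ g e => by
    obtain ⟨_, ⟨k, rfl⟩, hj⟩ := exists_mem_zpowers_orderOf_two ha
    have h0 : (a : G) ^ k = z := congrArg Subtype.val (hu' _ hj)
    have h1 : g⁻¹ * (a : G) ^ k * g = ((b ^ k : centralizer ({z} : Set G)) : G) := by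
      rw [coe_zpow, ← show g⁻¹ * (a : G) * g = (b : G) from e]
      simpa using (conj_zpow (a := g⁻¹) (b := (a : G)) (i := k)).symm
    rw [h0] at h1
    have h2 := hu (g⁻¹ * z * g) (by rw [← hz]; exact (MulAut.conj g⁻¹).orderOf_eq z ▸ by simp)
      (h1 ▸ (mem_centralizer_singleton_iff.1 (b ^ k).2).symm)
    rw [range_subtype, mem_centralizer_singleton_iff]
    rw [mul_assoc, inv_mul_eq_iff_eq_mul] at h2
    exact h2.symm
  have hodd : ∀ x y, IsConj z x → IsConj z y → ¬ 2 ∣ orderOf (x * y) := fun a b ha hb hd => by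
    obtain ⟨j, hj, hj2⟩ := exists_mem_zpowers_orderOf_two hd
    have key : ∀ a, IsConj z a → a * a = 1 ∧ (a ∈ centralizer {j} → a = j) := fun a ha => by
      obtain ⟨g, rfl⟩ := isConj_iff.1 ha
      refine ⟨by rw [conj_mul, hz2]; simp, fun h => ?_⟩
      rw [← hu (g⁻¹ * j * g) (by rw [← hj2]; exact (MulAut.conj g⁻¹).orderOf_eq j ▸ by simp) ?_]
      · group
      · have := mem_centralizer_singleton_iff.1 h
        calc z * (g⁻¹ * j * g) = g⁻¹ * (g * z * g⁻¹ * j) * g := by group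
          _ = _ := by rw [this]; group
    obtain ⟨h1, h2⟩ := mem_centralizer_of_mem_zpowers_mul (key a ha).1 (key b hb).1 hj2 hj
    rw [(key b hb).2 h2, ← (key a ha).2 h1, (key a ha).1, orderOf_one] at hd
    omega
  let I : (H → ℂ) → G → ℂ := fun θ => ind (centralizer ({z} : Set G)).subtype (θ ∘ π)
  have hvan : ∀ {θ : H → ℂ}, (∀ h, ¬ 2 ∣ orderOf h → θ h = 0) →
      ∀ c, c ∉ {c : centralizer ({z} : Set G) | 2 ∣ orderOf c} → (θ ∘ π) c = 0 :=
    fun hθ c hc => hθ _ fun h => hc (h.trans (orderOf_map_dvd π c))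
  have I1 : ∀ {θ φ : H → ℂ}, IsClassFunction H θ → IsClassFunction H φ →
      (∀ h, ¬ 2 ∣ orderOf h → θ h = 0) → (∀ h, ¬ 2 ∣ orderOf h → φ h = 0) →
      ip (I θ) (I φ) = ip θ φ := fun a b c d => by
    rw [ip_ind_ind_of_ti (subtype_injective _) hTI (a.comp π) (b.comp π) (hvan c) (hvan d),
      ip_comp_of_surjective π hπ]
  have I2 : ∀ θ : H → ℂ, ip (I θ) (fun _ => 1) = ip θ (f 0).1 := fun θ => by
    rw [ip_ind_left _ _ (IsClassFunction.const 1), f0, ← ip_comp_of_surjective π hπ]; rfl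
  have I3 : ∀ {θ : H → ℂ}, (∀ h, ¬ 2 ∣ orderOf h → θ h = 0) → ∀ g, ¬ 2 ∣ orderOf g → I θ g = 0 :=
    fun hθ g hg => ind_apply_eq_zero' _ fun c hc => hvan hθ c fun h => hg <| by
      obtain ⟨a, e⟩ := isConj_iff.1 hc
      rw [← (MulAut.conj a).orderOf_eq g, MulAut.conj_apply, e]; exact (orderOf_coe c).symm ▸ h
  have I4 : ∀ {θ : H → ℂ}, IsClassFunction H θ → (∀ h, ¬ 2 ∣ orderOf h → θ h = 0) →
      I θ z = θ (π z') := fun a b =>
    ind_apply_map_of_ti (subtype_injective _) hTI (a.comp π) (hvan b) (x := z') hz'.symm.dvd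
  have g1 : IsGeneralizedCharacter H ((f 0).1 + (f 1).1 - (f 4).1) :=
    ((f 0).isCharacter.isGen.add (f 1).isCharacter.isGen).sub (f 4).isCharacter.isGen
  have g2 : IsGeneralizedCharacter H ((f 1).1 + (f 2).1 - (f 3).1) :=
    ((f 1).isCharacter.isGen.add (f 2).isCharacter.isGen).sub (f 3).isCharacter.isGen
  have z1 : ∀ h, ¬ 2 ∣ orderOf h → ((f 0).1 + (f 1).1 - (f 4).1) h = 0 := fun h hh => by
    simp [f0, f1, f4, p4 h hh, li]
    linear_combination -(1 + (lam h : ℂ)) * l3 h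
  have z2 : ∀ h, ¬ 2 ∣ orderOf h → ((f 1).1 + (f 2).1 - (f 3).1) h = 0 := fun h hh => by
    simp [f1, f2, f3, p4 h hh, li]
  have z3 : ∀ h, ¬ 2 ∣ orderOf h → star ((f 0).1 + (f 1).1 - (f 4).1) h = 0 := fun h hh => by
    rw [Pi.star_apply, z1 h hh, star_zero]
  have st : star ((f 0).1 + (f 1).1 - (f 4).1) = (f 0).1 + (f 2).1 - (f 5).1 := by
    ext h; simp [f0, f1, f2, f4, f5, linear_conj_apply]
  have sI : star (I ((f 0).1 + (f 1).1 - (f 4).1)) = I (star ((f 0).1 + (f 1).1 - (f 4).1)) :=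
    (ind_star _ _).symm
  have c1 := g1.isClassFunction
  have c2 := g2.isClassFunction
  refine core (z := z) (fun χ hχ => ?_) hz2 ((g1.comp π).ind _) ((g2.comp π).ind _)
    ((I1 c1 c1 z1 z1).trans ?_) ((I2 _).trans ?_) (sI ▸ (I1 c1 c1.star z1 z3).trans ?_)
    ((I1 c2 c2 z2 z2).trans ?_) ((I2 _).trans ?_) ((I1 c2 c1 z2 z1).trans ?_)
    (sI ▸ (I1 c2 c1.star z2 z3).trans ?_) (I3 z1 1 (by simp)) ((I4 c1 z1).trans ?_)
    (I3 z2 1 (by simp)) ((I4 c2 z2).trans ?_) (fun a b ha hb => I3 z1 _ (hodd a b ha hb))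
    (fun a b ha hb => I3 z2 _ (hodd a b ha hb))
  · rcases (inferInstance : (commutator G).Normal).eq_bot_or_eq_top with e | e
    · refine (hQc (isMulCommutative_iff_forall.2 fun a _ b _ => ?_)).elim
      obtain ⟨a, rfl⟩ := hπ a
      obtain ⟨b, rfl⟩ := hπ b
      rw [← map_mul, ← map_mul]
      exact congrArg π (Subtype.ext (commutatorElement_eq_one_iff_mul_comm.1
        (mem_bot.1 (e ▸ commutator_mem_commutator (mem_top _) (mem_top _)))))
    · rw [← χ.charKer_eq_top_iff, eq_top_iff, ← e]; exact χ.commutator_le_charKer_iff.2 hχ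
  iterate 7
    simp only [st, ip_add_left, ip_add_right, ip_sub_left, ip_sub_right, o, Fin.reduceEq, reduceIte]
    norm_num
  · simp [f0, f1, f4, l1, p2]; norm_num
  · simp [f1, f2, f3, l1, p2]; norm_num

end Cfsg.Acd

set_option linter.all false in
theorem Cfsg.Rz.Acd_Quat_0 : True := by
  have := @_root_.Cfsg.Acd.SI.eq_def.{0}
  have := @_root_.Cfsg.Acd.SI.eq_1.{0}
  have := @_root_.Cfsg.Acd.SI.fun_cases
  trivial
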